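import Groth.Agent.TwBCLib.Local
import Groth.Agent.KoszShLib.AffHom
import Groth.Agent.GenBCLib.SectExists

/-!
# The twisted base change isomorphism
-/

set_option autoImplicit false
set_option backward.isDefEq.respectTransparency false
set_option linter.style.haveILetI false

universe u

open CategoryTheory Limits Opposite TopologicalSpace AlgebraicGeometry
open Groth.Agent.CohBase Groth.Agent.RpushLib Groth.Agent.GenBCLib Groth.Agent.PullbackMod Groth.Agent.DCohLib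
open scoped TensorProduct

noncomputable section

namespace Groth.Agent.TwBCLib

/-- A tensor product with a base change. -/
theorem exists_cancel_equiv {A B M R Q T : Type u} [CommRing A] [CommRing B] [Algebra A B]
    [AddCommGroup M] [Module A M] [Module B M] [IsScalarTower A B M] [AddCommGroup R] [Module A R]
    [AddCommGroup Q] [Module B Q] [AddCommGroup T] [Module B T]
    (eQ : B ⊗[A] R ≃ₗ[B] Q) (P : M ⊗[B] Q ≃ₗ[B] T) :
    ∃ c : M ⊗[A] R ≃ₗ[B] T, ∀ m r, c (m ⊗ₜ r) = P (m ⊗ₜ eQ (1 ⊗ₜ r)) :=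
  ⟨(TensorProduct.AlgebraTensorModule.cancelBaseChange A B B M R).symm ≪≫ₗ
    TensorProduct.congr (LinearEquiv.refl B M) eQ ≪≫ₗ P, fun m r => by simp⟩

section Basis

variable {X : Scheme.{u}} {M N : X.Modules} (B : Set X.Opens) (hB : Opens.IsBasis B)

include hB in
theorem eq_of_basis (U : X.Opens) (a b : Γ(N, U))
    (h : ∀ W ∈ B, ∀ hW : W ≤ U, N.presheaf.map (homOfLE hW).op a = N.presheaf.map (homOfLE hW).op b) : a = b := by
  let Ns : TopCat.Sheaf Ab X := ⟨N.presheaf, N.isSheaf⟩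
  refine Ns.eq_of_locally_eq' (fun W : {W : X.Opens // W ∈ B ∧ W ≤ U} => W.1) U
    (fun W => homOfLE W.2.2) (fun x hx => ?_) _ _ fun W => h W.1 W.2.1 W.2.2
  obtain ⟨V, hV, hxV, hVU⟩ := Opens.isBasis_iff_nbhd.1 hB hx
  exact Opens.mem_iSup.2 ⟨⟨V, hV, hVU⟩, hxV⟩

include hB in
/-- A morphism of modules from linear maps on a basis. -/
theorem exists_hom_of_basis (h : ∀ W : B, Γ(M, W.1) →ₗ[Γ(X, W.1)] Γ(N, W.1))
    (hres : ∀ (V W : B) (hVW : V.1 ≤ W.1) (t : Γ(M, W.1)),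
      h V (M.presheaf.map (homOfLE hVW).op t) = N.presheaf.map (homOfLE hVW).op (h W t)) :
    ∃ φ : M ⟶ N, ∀ (W : B) (t : Γ(M, W.1)), φ.app W.1 t = h W t := by
  let Ns : TopCat.Sheaf Ab X := ⟨N.presheaf, N.isSheaf⟩
  have hB' : Opens.IsBasis (Set.range fun W : B => W.1) := by rwa [Subtype.range_coe]
  let nat : (inducedFunctor fun W : B => W.1).op ⋙ M.presheaf ⟶ (inducedFunctor fun W : B => W.1).op ⋙ N.presheaf :=
    { app := fun W => AddCommGrpCat.ofHom (h W.unop).toAddMonoidHom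
      naturality := fun W V i => by
        ext t
        exact hres V.unop W.unop i.unop.hom.le t }
  let g : M.presheaf ⟶ N.presheaf := TopCat.Sheaf.restrictHomEquivHom M.presheaf Ns hB' nat
  have hg' : ∀ (W : B) (t : Γ(M, W.1)), g.app (op W.1) t = h W t := fun W t =>
    ConcreteCategory.congr_hom (TopCat.Sheaf.extend_hom_app M.presheaf Ns hB' nat W) t
  refine ⟨⟨PresheafOfModules.homMk g fun U r t => ?_⟩, fun W t => hg' W t⟩
  change Γ(M, U.unop) at t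
  change Γ(X, U.unop) at r
  show g.app (op U.unop) (r • t) = r • g.app (op U.unop) t
  refine eq_of_basis B hB U.unop _ _ fun W hWB hW => ?_
  rw [Scheme.Modules.map_smul, ← NatTrans.naturality_apply g (homOfLE hW).op,
    ← NatTrans.naturality_apply g (homOfLE hW).op, Scheme.Modules.map_smul, hg' ⟨W, hWB⟩, hg' ⟨W, hWB⟩, map_smul]

end Basis

variable {X S X' S' : Scheme.{u}} {f : X ⟶ S} {g : S' ⟶ S} {f' : X' ⟶ S'} {g' : X' ⟶ X}
  [HasInjectiveResolutions X.Modules] [HasInjectiveResolutions X'.Modules]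
  (h : IsPullback g' f' f g) [QuasiCompact f] [QuasiSeparated f]
  (G : S'.Modules) [Coh.IsQCoh G] (F : X.Modules) [Coh.IsQCoh F] (hG : FlatMod.IsFlatOver g G)

/-- The source. -/
abbrev src (g : S' ⟶ S) (f : X ⟶ S) (p : ℕ) : S'.Modules :=
  tmod G ((Scheme.Modules.pullback g).obj ((Coh.Rpush f p).obj F))

/-- The basic section of the source. -/
def qS (p : ℕ) {V : S.Opens} {V' : S'.Opens} (e : V' ≤ g ⁻¹ᵁ V) (s : Γ(G, V'))
    (ξ : Γ((Coh.Rpush f p).obj F, V)) : Γ(src G F g f p, V') :=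
  pairS _ _ s (pullMap g ((Coh.Rpush f p).obj F) e ξ)

omit [HasInjectiveResolutions X'.Modules] [QuasiCompact f] [QuasiSeparated f] [Coh.IsQCoh G] [Coh.IsQCoh F] in
theorem qS_res (p : ℕ) {V V₂ : S.Opens} {V' V₂' : S'.Opens} (e : V' ≤ g ⁻¹ᵁ V) (e₂ : V₂' ≤ g ⁻¹ᵁ V₂)
    (hV : V₂ ≤ V) (hV' : V₂' ≤ V') (s : Γ(G, V')) (ξ : Γ((Coh.Rpush f p).obj F, V)) :
    (src G F g f p).presheaf.map (homOfLE hV').op (qS G F p e s ξ) =
      qS G F p e₂ (G.presheaf.map (homOfLE hV').op s) (((Coh.Rpush f p).obj F).presheaf.map (homOfLE hV).op ξ) :=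
  (res_pairS hV' _ _).trans (congrArg (pairS _ _ _) (pullMap_res g _ e hV hV' e₂ ξ))

omit [HasInjectiveResolutions X'.Modules] in
/-- Sections of the source on affine opens. -/
theorem exists_qS_equiv (p : ℕ) {V : S.Opens} (hV : IsAffineOpen V) {V' : S'.Opens} (hV' : IsAffineOpen V')
    (e : V' ≤ g ⁻¹ᵁ V) :
    letI : Algebra Γ(S, V) Γ(S', V') := (g.appLE V V' e).hom.toAlgebra
    letI := Module.compHom Γ(G, V') (g.appLE V V' e).hom
    haveI : IsScalarTower Γ(S, V) Γ(S', V') Γ(G, V') := .of_algebraMap_smul fun _ _ => rfl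
    ∃ c : Γ(G, V') ⊗[Γ(S, V)] Γ((Coh.Rpush f p).obj F, V) ≃ₗ[Γ(S', V')] Γ(src G F g f p, V'),
      ∀ s ξ, c (s ⊗ₜ ξ) = qS G F p e s ξ := by
  letI : Algebra Γ(S, V) Γ(S', V') := (g.appLE V V' e).hom.toAlgebra
  letI := Module.compHom Γ(G, V') (g.appLE V V' e).hom
  haveI : IsScalarTower Γ(S, V) Γ(S', V') Γ(G, V') := .of_algebraMap_smul fun _ _ => rfl
  let R := (Coh.Rpush f p).obj F
  haveI : Coh.IsQCoh R := isQCoh_rpush f p
  haveI := PullbackMod.isQCoh_pullback g R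
  letI := Module.compHom Γ((Scheme.Modules.pullback g).obj R, V') (g.appLE V V' e).hom
  haveI : IsScalarTower Γ(S, V) Γ(S', V') Γ((Scheme.Modules.pullback g).obj R, V') :=
    .of_algebraMap_smul fun _ _ => rfl
  have hb := PullbackMod.isBaseChange_pullMapL g R hV hV' e
  obtain ⟨c, hc⟩ := exists_cancel_equiv (A := Γ(S, V)) (M := Γ(G, V')) hb.equiv
    (LinearEquiv.ofBijective (pairL G ((Scheme.Modules.pullback g).obj R) V') (bijective_pairL _ _ hV'))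
  refine ⟨c, fun s ξ => (hc s ξ).trans ?_⟩
  show pairS G _ s (hb.equiv (1 ⊗ₜ ξ)) = _
  rw [hb.equiv_tmul, one_smul]
  rfl

variable {Δ : RDer.DerivedLES (Scheme.Modules.pushforward f)} {Δ' : RDer.DerivedLES (Scheme.Modules.pushforward f')}
  {E : CohCmp.SectCmp f Δ} {E' : CohCmp.SectCmp f' Δ'}

/-- The defining property of the comparison over a pair of opens. -/
def IsLam (E : CohCmp.SectCmp f Δ) (E' : CohCmp.SectCmp f' Δ') (p : ℕ) {V : S.Opens} {V' : S'.Opens}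
    (e : V' ≤ g ⁻¹ᵁ V) (lam : Γ(src G F g f p, V') →ₗ[Γ(S', V')] Γ((Coh.Rpush f' p).obj (tw f' g' G F), V')) : Prop :=
  ∀ (s : Γ(G, V')) (x : Coh.HHon X F (f ⁻¹ᵁ V) p),
    lam (qS G F p e s (E.ε V F p x)) = E'.ε V' (tw f' g' G F) p (twCls h.w G F e p s x)

include hG in
/-- The comparison over a pair of affine opens. -/
theorem exists_isLam (p : ℕ) {V : S.Opens} (hV : IsAffineOpen V) {V' : S'.Opens} (hV' : IsAffineOpen V')
    (e : V' ≤ g ⁻¹ᵁ V) :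
    ∃ lam : Γ(src G F g f p, V') →ₗ[Γ(S', V')] Γ((Coh.Rpush f' p).obj (tw f' g' G F), V'),
      Function.Bijective lam ∧ IsLam h G F E E' p e lam := by
  haveI : QuasiCompact f' := MorphismProperty.of_isPullback (P := @QuasiCompact) h inferInstance
  haveI : QuasiSeparated f' := MorphismProperty.of_isPullback (P := @QuasiSeparated) h inferInstance
  haveI := PullbackMod.isQCoh_pullback f' G
  haveI := PullbackMod.isQCoh_pullback g' F
  haveI : Coh.IsQCoh (tw f' g' G F) := BCLib.isQCoh_tmod _ _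
  letI : Algebra Γ(S, V) Γ(S', V') := (g.appLE V V' e).hom.toAlgebra
  letI := Module.compHom Γ(G, V') (g.appLE V V' e).hom
  haveI : IsScalarTower Γ(S, V) Γ(S', V') Γ(G, V') := .of_algebraMap_smul fun _ _ => rfl
  letI : Module Γ(S, V) (Coh.HHon X F (f ⁻¹ᵁ V) p) := Module.compHom _ (preTop f V)
  letI : Module Γ(S', V') (Coh.HHon X' (tw f' g' G F) (f' ⁻¹ᵁ V') p) := Module.compHom _ (preTop f' V')
  let ε : Coh.HHon X F (f ⁻¹ᵁ V) p ≃ₗ[Γ(S, V)] Γ((Coh.Rpush f p).obj F, V) :=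
    (AddEquiv.ofBijective (E.ε V F p) (bijective_eps_qs E F hV p)).toLinearEquiv fun a x =>
      eps_smul f E p F V a x
  let ε' : Coh.HHon X' (tw f' g' G F) (f' ⁻¹ᵁ V') p ≃ₗ[Γ(S', V')] Γ((Coh.Rpush f' p).obj (tw f' g' G F), V') :=
    (AddEquiv.ofBijective (E'.ε V' _ p) (bijective_eps_qs E' _ hV' p)).toLinearEquiv fun a x =>
      eps_smul f' E' p _ V' a x
  obtain ⟨c, hc⟩ := exists_qS_equiv (f := f) G F p hV hV' e
  obtain ⟨t, ht⟩ := exists_twCls_equiv h G F e hV hV' hG p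
  let i := TensorProduct.AlgebraTensorModule.congr (LinearEquiv.refl Γ(S', V') Γ(G, V')) ε
  refine ⟨(c.symm ≪≫ₗ i.symm ≪≫ₗ t ≪≫ₗ ε').toLinearMap, (c.symm ≪≫ₗ i.symm ≪≫ₗ t ≪≫ₗ ε').bijective, fun s x => ?_⟩
  have h1 : c.symm (qS G F p e s (E.ε V F p x)) = i (s ⊗ₜ x) :=
    c.injective ((c.apply_symm_apply _).trans (hc s (ε x)).symm)
  show ε' (t (i.symm (c.symm (qS G F p e s (E.ε V F p x))))) = _
  exact (congrArg ε' ((congrArg t ((congrArg i.symm h1).trans (i.symm_apply_apply _))).trans (ht s x)))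

include E E' in
/-- The comparisons commute with restriction. -/
theorem lam_res (p : ℕ) {V₁ V₂ : S.Opens} (hV₁ : IsAffineOpen V₁) {W₁ W₂ : S'.Opens} (hW₁ : IsAffineOpen W₁)
    (e₁ : W₁ ≤ g ⁻¹ᵁ V₁) (e₂ : W₂ ≤ g ⁻¹ᵁ V₂) (hV : V₂ ≤ V₁) (hW : W₂ ≤ W₁)
    {lam₁ : Γ(src G F g f p, W₁) →ₗ[Γ(S', W₁)] Γ((Coh.Rpush f' p).obj (tw f' g' G F), W₁)}
    {lam₂ : Γ(src G F g f p, W₂) →ₗ[Γ(S', W₂)] Γ((Coh.Rpush f' p).obj (tw f' g' G F), W₂)}
    (h₁ : IsLam h G F E E' p e₁ lam₁) (h₂ : IsLam h G F E E' p e₂ lam₂) (z : Γ(src G F g f p, W₁)) :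
    lam₂ ((src G F g f p).presheaf.map (homOfLE hW).op z) =
      ((Coh.Rpush f' p).obj (tw f' g' G F)).presheaf.map (homOfLE hW).op (lam₁ z) := by
  letI : Algebra Γ(S, V₁) Γ(S', W₁) := (g.appLE V₁ W₁ e₁).hom.toAlgebra
  letI := Module.compHom Γ(G, W₁) (g.appLE V₁ W₁ e₁).hom
  haveI : IsScalarTower Γ(S, V₁) Γ(S', W₁) Γ(G, W₁) := .of_algebraMap_smul fun _ _ => rfl
  obtain ⟨c, hc⟩ := exists_qS_equiv (f := f) G F p hV₁ hW₁ e₁
  obtain ⟨z, rfl⟩ := c.surjective z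
  induction z using TensorProduct.induction_on with
  | zero => simp only [map_zero]
  | tmul s ξ =>
    obtain ⟨x, rfl⟩ := (bijective_eps_qs E F hV₁ p).2 ξ
    rw [hc, h₁, qS_res G F p e₁ e₂ hV hW]
    erw [← eps_res f E p F hV x]
    rw [h₂]
    refine Eq.trans ?_ (eps_res_eq f' E' p (tw f' g' G F) hW _ _ (resLE_twCls h.w G F e₁ hW p s x)).symm
    exact congrArg (E'.ε W₂ (tw f' g' G F) p) (twCls_resLE h.w G F (hW.trans e₁) hV e₂ p _ x)
  | add a b ha hb => simp only [map_add, ha, hb]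

omit [HasInjectiveResolutions X.Modules] [HasInjectiveResolutions X'.Modules] [QuasiCompact f] [QuasiSeparated f] in
theorem isBasis_small (g : S' ⟶ S) :
    Opens.IsBasis {W : S'.Opens | IsAffineOpen W ∧ ∃ V : S.Opens, IsAffineOpen V ∧ W ≤ g ⁻¹ᵁ V} := by
  rw [Opens.isBasis_iff_nbhd]
  intro U y hy
  obtain ⟨_, ⟨V, hV, rfl⟩, hyV, -⟩ := S.isBasis_affineOpens.exists_subset_of_mem_open
    (Set.mem_univ (g y)) isOpen_univ
  obtain ⟨_, ⟨W, hW, rfl⟩, hyW, hWU⟩ := S'.isBasis_affineOpens.exists_subset_of_mem_open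
    (show y ∈ U ⊓ g ⁻¹ᵁ V from ⟨hy, hyV⟩) (U ⊓ g ⁻¹ᵁ V).isOpen
  exact ⟨W, ⟨hW, V, hV, fun z hz => (hWU hz).2⟩, hyW, fun z hz => (hWU hz).1⟩

include h hG in
/-- Twisted base change. -/
theorem nonempty_iso (p : ℕ) :
    Nonempty (src G F g f p ≅ (Coh.Rpush f' p).obj (tw f' g' G F)) := by
  obtain ⟨Δ, ⟨E⟩⟩ := GenBCLib.exists_sectCmp f
  obtain ⟨Δ', ⟨E'⟩⟩ := GenBCLib.exists_sectCmp f'
  let B : Set S'.Opens := {W : S'.Opens | IsAffineOpen W ∧ ∃ V : S.Opens, IsAffineOpen V ∧ W ≤ g ⁻¹ᵁ V}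
  have hB : Opens.IsBasis B := isBasis_small g
  choose hWaff V hV e using fun W : B => W.2
  choose lam hbij hlam using fun W : B => exists_isLam h G F hG (E := E) (E' := E') p (hV W) (hWaff W) (e W)
  obtain ⟨φ, hφ⟩ := exists_hom_of_basis B hB lam fun W₂ W₁ hW t => by
    refine eq_of_basis {O₃ : S'.Opens | IsAffineOpen O₃ ∧ ∃ V₃ : S.Opens, IsAffineOpen V₃ ∧ V₃ ≤ V W₁ ⊓ V W₂ ∧
      O₃ ≤ g ⁻¹ᵁ V₃ ∨ ¬ O₃ ≤ W₂.1} ?_ W₂.1 _ _ fun O₃ hO₃ hle₂ => ?_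
    · rw [Opens.isBasis_iff_nbhd]
      intro U y hy
      by_cases hyO : y ∈ g ⁻¹ᵁ (V W₁ ⊓ V W₂)
      · obtain ⟨_, ⟨V₃, hV₃, rfl⟩, hyV, hV₃le⟩ := S.isBasis_affineOpens.exists_subset_of_mem_open
          (show g y ∈ V W₁ ⊓ V W₂ from hyO) (V W₁ ⊓ V W₂).isOpen
        obtain ⟨_, ⟨O₃, hO₃, rfl⟩, hyW, hWU⟩ := S'.isBasis_affineOpens.exists_subset_of_mem_open
          (show y ∈ U ⊓ g ⁻¹ᵁ V₃ from ⟨hy, hyV⟩) (U ⊓ g ⁻¹ᵁ V₃).isOpen
        exact ⟨O₃, ⟨hO₃, V₃, Or.inl ⟨hV₃, hV₃le, fun z hz => (hWU hz).2⟩⟩, hyW, fun z hz => (hWU hz).1⟩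
      · obtain ⟨_, ⟨O₃, hO₃, rfl⟩, hyW, hWU⟩ := S'.isBasis_affineOpens.exists_subset_of_mem_open hy U.isOpen
        exact ⟨O₃, ⟨hO₃, V W₁, Or.inr fun hle => hyO ⟨e W₁ (hW (hle hyW)), e W₂ (hle hyW)⟩⟩, hyW, hWU⟩
    · obtain ⟨hO₃aff, V₃, hc⟩ := hO₃
      obtain ⟨hV₃, hV₃le, e₃⟩ := hc.resolve_right (not_not.2 hle₂)
      obtain ⟨lam₃, -, hlam₃⟩ := exists_isLam h G F hG (E := E) (E' := E') p hV₃ hO₃aff e₃
      rw [restr_trans]
      rw [← lam_res h G F p (hV W₁) (hWaff W₁) (e W₁) e₃ (hV₃le.trans inf_le_left) (hle₂.trans hW) (hlam W₁) hlam₃,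
        ← lam_res h G F p (hV W₂) (hWaff W₂) (e W₂) e₃ (hV₃le.trans inf_le_right) hle₂ (hlam W₂) hlam₃, restr_trans]
  haveI : QuasiCompact f' := MorphismProperty.of_isPullback (P := @QuasiCompact) h inferInstance
  haveI : QuasiSeparated f' := MorphismProperty.of_isPullback (P := @QuasiSeparated) h inferInstance
  haveI := PullbackMod.isQCoh_pullback f' G
  haveI := PullbackMod.isQCoh_pullback g' F
  haveI : Coh.IsQCoh (tw f' g' G F) := BCLib.isQCoh_tmod _ _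
  haveI : Coh.IsQCoh ((Coh.Rpush f p).obj F) := isQCoh_rpush f p
  haveI := PullbackMod.isQCoh_pullback g ((Coh.Rpush f p).obj F)
  haveI : Coh.IsQCoh (src G F g f p) := BCLib.isQCoh_tmod _ _
  haveI : Coh.IsQCoh ((Coh.Rpush f' p).obj (tw f' g' G F)) := isQCoh_rpush f' p
  haveI : IsIso φ := by
    refine OmegaUnivLib.isIso_of_bijective_cover φ fun y => ?_
    obtain ⟨W, hW, hy, -⟩ := Opens.isBasis_iff_nbhd.1 hB (Opens.mem_top y)
    refine ⟨W, hW.1, hy, ?_⟩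
    rw [show ⇑(φ.app W) = ⇑(lam ⟨W, hW⟩) from funext fun t => hφ ⟨W, hW⟩ t]
    exact hbij _
  exact ⟨asIso φ⟩

end Groth.Agent.TwBCLib
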