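import Groth.Agent.FlatLocus.ModInjFlat
import Groth.Agent.DCohLib.StalkTensor
import Groth.Agent.BCLib.TensorQCoh
import Groth.Agent.PullbackMod.Flat

/-!
# Sections of a tensor product of inverse images on affine opens
-/

set_option autoImplicit false
set_option backward.isDefEq.respectTransparency false
set_option linter.style.haveILetI false

universe u

open CategoryTheory AlgebraicGeometry TopologicalSpace Opposite TensorProduct
open Groth.Agent.DCohLib

noncomputable section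

namespace Groth.Agent.TwBCLib

variable {X : Scheme.{u}}

/-- The pairing of sections as a bilinear map. -/
def pairL (M N : X.Modules) (W : X.Opens) : Γ(M, W) ⊗[Γ(X, W)] Γ(N, W) →ₗ[Γ(X, W)] Γ(tmod M N, W) :=
  TensorProduct.lift (LinearMap.mk₂ Γ(X, W) (fun m n => pairS M N m n) pairS_add_left
    (fun r m n => pairS_smul_left r m n) pairS_add_right fun r m n => pairS_smul_right r m n)

theorem pairL_tmul (M N : X.Modules) (W : X.Opens) (m : Γ(M, W)) (n : Γ(N, W)) :
    pairL M N W (m ⊗ₜ n) = pairS M N m n := rfl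

/-- On an affine open the sections of a tensor product are the tensor product of the sections. -/
theorem bijective_pairL (M N : X.Modules) [Coh.IsQCoh M] [Coh.IsQCoh N] {W : X.Opens} (hW : IsAffineOpen W) :
    Function.Bijective (pairL M N W) := by
  haveI : Coh.IsQCoh (tmod M N) := BCLib.isQCoh_tmod M N
  refine bijective_of_localized_maximal _ fun P hP => ?_
  have hx : hW.fromSpec ⟨P, inferInstance⟩ ∈ W := by
    have : hW.fromSpec ⟨P, inferInstance⟩ ∈ Set.range hW.fromSpec := ⟨_, rfl⟩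
    rwa [hW.range_fromSpec] at this
  let x : X := hW.fromSpec ⟨P, inferInstance⟩
  have hpx : hW.primeIdealOf ⟨x, hx⟩ = ⟨P, inferInstance⟩ :=
    hW.fromSpec.isOpenEmbedding.injective (hW.fromSpec_primeIdealOf ⟨_, hx⟩)
  letI : Algebra Γ(X, W) (X.presheaf.stalk x) := (X.presheaf.germ W x hx).hom.toAlgebra
  letI := Module.compHom (M.presheaf.stalk x) (X.presheaf.germ W x hx).hom
  letI := Module.compHom (N.presheaf.stalk x) (X.presheaf.germ W x hx).hom
  letI := Module.compHom ((tmod M N).presheaf.stalk x) (X.presheaf.germ W x hx).hom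
  haveI : IsScalarTower Γ(X, W) (X.presheaf.stalk x) (M.presheaf.stalk x) := .of_algebraMap_smul fun _ _ => rfl
  haveI : IsScalarTower Γ(X, W) (X.presheaf.stalk x) (N.presheaf.stalk x) := .of_algebraMap_smul fun _ _ => rfl
  haveI : IsScalarTower Γ(X, W) (X.presheaf.stalk x) ((tmod M N).presheaf.stalk x) :=
    .of_algebraMap_smul fun _ _ => rfl
  have hT : IsLocalizedModule P.primeCompl (FlatLocus.germL (tmod M N) W x hx) := by
    have h := FlatLocus.isLocalizedModule_germL (tmod M N) hW x hx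
    rwa [hpx] at h
  haveI : IsLocalization P.primeCompl (X.presheaf.stalk x) := by
    have h := hW.isLocalization_stalk ⟨x, hx⟩
    rw [hpx] at h
    exact h
  have hM : IsBaseChange (X.presheaf.stalk x) (FlatLocus.germL M W x hx) := by
    have h := FlatLocus.isLocalizedModule_germL M hW x hx
    rw [hpx] at h
    exact IsLocalizedModule.isBaseChange P.primeCompl _ _
  have hN : IsBaseChange (X.presheaf.stalk x) (FlatLocus.germL N W x hx) := by
    have h := FlatLocus.isLocalizedModule_germL N hW x hx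
    rw [hpx] at h
    exact IsLocalizedModule.isBaseChange P.primeCompl _ _
  let σ := (FlatLocus.germL (tmod M N) W x hx).comp (pairL M N W)
  have hσ : IsLocalizedModule P.primeCompl σ := by
    refine (isLocalizedModule_iff_isBaseChange P.primeCompl (X.presheaf.stalk x) σ).2 ?_
    refine IsBaseChange.of_equiv
      ((AlgebraTensorModule.distribBaseChange Γ(X, W) (X.presheaf.stalk x) Γ(M, W) Γ(N, W)).trans
        ((TensorProduct.congr hM.equiv hN.equiv).trans (stalkTensor x M N))) fun z => ?_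
    induction z using TensorProduct.induction_on with
    | zero => simp
    | tmul m n =>
      simp only [LinearEquiv.trans_apply]
      show stalkTensor x M N (TensorProduct.congr hM.equiv hN.equiv ((1 ⊗ₜ m) ⊗ₜ (1 ⊗ₜ n))) = _
      rw [TensorProduct.congr_tmul, IsBaseChange.equiv_tmul, IsBaseChange.equiv_tmul, one_smul, one_smul]
      exact stalkTensorHom_tmul x hx m n
    | add a b ha hb => rw [TensorProduct.tmul_add, map_add, map_add, ha, hb]
  let i := IsLocalizedModule.iso P.primeCompl σ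
  let j := IsLocalizedModule.iso P.primeCompl (FlatLocus.germL (tmod M N) W x hx)
  have key : j.toLinearMap ∘ₗ (LocalizedModule.map P.primeCompl (pairL M N W)).restrictScalars Γ(X, W) =
      i.toLinearMap := by
    refine IsLocalizedModule.ext P.primeCompl (LocalizedModule.mkLinearMap P.primeCompl _)
      (IsLocalizedModule.map_units (FlatLocus.germL (tmod M N) W x hx)) (LinearMap.ext fun z => ?_)
    simp [i, j, σ, LocalizedModule.map_mk]
  have h : Function.Bijective (j ∘ LocalizedModule.map P.primeCompl (pairL M N W)) := by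
    rw [show ⇑j ∘ ⇑(LocalizedModule.map P.primeCompl (pairL M N W)) = ⇑i from funext fun z => LinearMap.congr_fun key z]
    exact i.bijective
  exact (Function.Bijective.of_comp_iff' j.bijective _).1 h

/-- Tensor products of two base changes. -/
theorem exists_congr_equiv {A B O M F P Q : Type u} [CommRing A] [CommRing B] [CommRing O] [Algebra A B] [Algebra B O]
    [AddCommGroup M] [Module A M] [Module B M] [IsScalarTower A B M] [AddCommGroup F] [Module A F]
    [AddCommGroup P] [Module O P] [AddCommGroup Q] [Module O Q] [Module B Q] [IsScalarTower B O Q]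
    (eF : B ⊗[A] F ≃ₗ[B] Q) (eM : O ⊗[B] M ≃ₗ[O] P) :
    ∃ e : M ⊗[A] F ≃+ P ⊗[O] Q, ∀ m t, e (m ⊗ₜ t) = eM (1 ⊗ₜ m) ⊗ₜ eF (1 ⊗ₜ t) := by
  let c₁ := (AlgebraTensorModule.cancelBaseChange A B B M F).symm
  let c₂ := TensorProduct.congr (LinearEquiv.refl B M) eF
  let c₃ := (TensorProduct.comm B M Q).trans
    ((AlgebraTensorModule.cancelBaseChange B O O Q M).symm.restrictScalars B)
  let c₄ := (TensorProduct.comm O Q (O ⊗[B] M)).trans (TensorProduct.congr eM (LinearEquiv.refl O Q))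
  refine ⟨c₁.toAddEquiv.trans (c₂.toAddEquiv.trans (c₃.toAddEquiv.trans c₄.toAddEquiv)), fun m t => ?_⟩
  simp [c₁, c₂, c₃, c₄]

variable {S X' S' : Scheme.{u}} {f : X ⟶ S} {g : S' ⟶ S} {f' : X' ⟶ S'} {g' : X' ⟶ X}

/-- The twisted inverse image. -/
abbrev tw (f' : X' ⟶ S') (g' : X' ⟶ X) (G : S'.Modules) (F : X.Modules) : X'.Modules :=
  tmod ((Scheme.Modules.pullback f').obj G) ((Scheme.Modules.pullback g').obj F)

/-- The section of the twisted inverse image given by two sections. -/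
def twS (f' : X' ⟶ S') (g' : X' ⟶ X) (G : S'.Modules) (F : X.Modules) {V' : S'.Opens} {U : X.Opens}
    {W : X'.Opens} (e₂ : W ≤ f' ⁻¹ᵁ V') (e₁ : W ≤ g' ⁻¹ᵁ U) (s : Γ(G, V')) (t : Γ(F, U)) : Γ(tw f' g' G F, W) :=
  pairS _ _ (PullbackMod.pullMap f' G e₂ s) (PullbackMod.pullMap g' F e₁ t)

theorem twS_add_left (G : S'.Modules) (F : X.Modules) {V' : S'.Opens} {U : X.Opens} {W : X'.Opens}
    (e₂ : W ≤ f' ⁻¹ᵁ V') (e₁ : W ≤ g' ⁻¹ᵁ U) (s s' : Γ(G, V')) (t : Γ(F, U)) :
    twS f' g' G F e₂ e₁ (s + s') t = twS f' g' G F e₂ e₁ s t + twS f' g' G F e₂ e₁ s' t := by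
  simp only [twS, map_add, pairS_add_left]

theorem twS_add_right (G : S'.Modules) (F : X.Modules) {V' : S'.Opens} {U : X.Opens} {W : X'.Opens}
    (e₂ : W ≤ f' ⁻¹ᵁ V') (e₁ : W ≤ g' ⁻¹ᵁ U) (s : Γ(G, V')) (t t' : Γ(F, U)) :
    twS f' g' G F e₂ e₁ s (t + t') = twS f' g' G F e₂ e₁ s t + twS f' g' G F e₂ e₁ s t' := by
  simp only [twS, map_add, pairS_add_right]

theorem twS_smul_left (G : S'.Modules) (F : X.Modules) {V' : S'.Opens} {U : X.Opens} {W : X'.Opens}
    (e₂ : W ≤ f' ⁻¹ᵁ V') (e₁ : W ≤ g' ⁻¹ᵁ U) (b : Γ(S', V')) (s : Γ(G, V')) (t : Γ(F, U)) :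
    twS f' g' G F e₂ e₁ (b • s) t = f'.appLE V' W e₂ b • twS f' g' G F e₂ e₁ s t :=
  (congrArg (fun m => pairS _ _ m (PullbackMod.pullMap g' F e₁ t)) (PullbackMod.pullMap_smul f' G e₂ b s)).trans
    (pairS_smul_left _ _ _)

theorem twS_smul_right (G : S'.Modules) (F : X.Modules) {V' : S'.Opens} {U : X.Opens} {W : X'.Opens}
    (e₂ : W ≤ f' ⁻¹ᵁ V') (e₁ : W ≤ g' ⁻¹ᵁ U) (r : Γ(X, U)) (s : Γ(G, V')) (t : Γ(F, U)) :
    twS f' g' G F e₂ e₁ s (r • t) = g'.appLE U W e₁ r • twS f' g' G F e₂ e₁ s t :=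
  (congrArg (fun n => pairS _ _ (PullbackMod.pullMap f' G e₂ s) n) (PullbackMod.pullMap_smul g' F e₁ r t)).trans
    (pairS_smul_right _ _ _)

theorem twS_res (G : S'.Modules) (F : X.Modules) {V' : S'.Opens} {U : X.Opens} {W W₁ : X'.Opens}
    {V₁ : S'.Opens} {U₁ : X.Opens} (e₂ : W ≤ f' ⁻¹ᵁ V') (e₁ : W ≤ g' ⁻¹ᵁ U) (hW : W₁ ≤ W) (hV : V₁ ≤ V')
    (hU : U₁ ≤ U) (e₂' : W₁ ≤ f' ⁻¹ᵁ V₁) (e₁' : W₁ ≤ g' ⁻¹ᵁ U₁) (s : Γ(G, V')) (t : Γ(F, U)) :
    (tw f' g' G F).presheaf.map (homOfLE hW).op (twS f' g' G F e₂ e₁ s t) =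
      twS f' g' G F e₂' e₁' (G.presheaf.map (homOfLE hV).op s) (F.presheaf.map (homOfLE hU).op t) :=
  (res_pairS hW _ _).trans (congrArg₂ (fun m n => pairS _ _ m n) (PullbackMod.pullMap_res f' G e₂ hV hW e₂' s)
    (PullbackMod.pullMap_res g' F e₁ hU hW e₁' t))

variable (h : IsPullback g' f' f g) (G : S'.Modules) (F : X.Modules) [Coh.IsQCoh G] [Coh.IsQCoh F]
  {V : S.Opens} (hV : IsAffineOpen V) {V' : S'.Opens} (hV' : IsAffineOpen V') (eV : V' ≤ g ⁻¹ᵁ V)
  {U : X.Opens} (hU : IsAffineOpen U) (eU : U ≤ f ⁻¹ᵁ V)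

include h hV hV' eV hU eU in
/-- Sections of the twisted inverse image on an affine open. -/
theorem exists_twS_equiv :
    letI := Module.compHom Γ(G, V') (g.appLE V V' eV).hom
    letI := Module.compHom Γ(F, U) (f.appLE V U eU).hom
    ∃ e : Γ(G, V') ⊗[Γ(S, V)] Γ(F, U) ≃+ Γ(tw f' g' G F, g' ⁻¹ᵁ U ⊓ f' ⁻¹ᵁ V'),
      ∀ s t, e (s ⊗ₜ t) = twS f' g' G F inf_le_right inf_le_left s t := by
  obtain ⟨hW', hpo⟩ := PullbackMod.isPushout_appLE h hV hU hV' eU eV
  haveI := PullbackMod.isQCoh_pullback f' G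
  haveI := PullbackMod.isQCoh_pullback g' F
  let W := g' ⁻¹ᵁ U ⊓ f' ⁻¹ᵁ V'
  letI : Algebra Γ(S, V) Γ(X, U) := (f.appLE V U eU).hom.toAlgebra
  letI : Algebra Γ(S, V) Γ(S', V') := (g.appLE V V' eV).hom.toAlgebra
  letI : Algebra Γ(X, U) Γ(X', W) := (g'.appLE U W inf_le_left).hom.toAlgebra
  letI : Algebra Γ(S', V') Γ(X', W) := (f'.appLE V' W inf_le_right).hom.toAlgebra
  letI : Algebra Γ(S, V) Γ(X', W) := ((g'.appLE U W inf_le_left).hom.comp (f.appLE V U eU).hom).toAlgebra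
  haveI : IsScalarTower Γ(S, V) Γ(X, U) Γ(X', W) := .of_algebraMap_eq fun _ => rfl
  haveI : IsScalarTower Γ(S, V) Γ(S', V') Γ(X', W) := .of_algebraMap_eq' (by
      show ((f.appLE V U eU) ≫ g'.appLE U _ inf_le_left).hom =
        ((g.appLE V V' eV) ≫ f'.appLE V' _ inf_le_right).hom
      simp only [Scheme.Hom.appLE_comp_appLE, h.w])
  haveI : Algebra.IsPushout Γ(S, V) Γ(S', V') Γ(X, U) Γ(X', W) := hpo
  let GW := (Scheme.Modules.pullback f').obj G
  let FW := (Scheme.Modules.pullback g').obj F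
  letI := Module.compHom Γ(G, V') (g.appLE V V' eV).hom
  letI := Module.compHom Γ(F, U) (f.appLE V U eU).hom
  haveI : IsScalarTower Γ(S, V) Γ(S', V') Γ(G, V') := .of_algebraMap_smul fun _ _ => rfl
  haveI : IsScalarTower Γ(S, V) Γ(X, U) Γ(F, U) := .of_algebraMap_smul fun _ _ => rfl
  letI := Module.compHom Γ(GW, W) (f'.appLE V' W inf_le_right).hom
  haveI : IsScalarTower Γ(S', V') Γ(X', W) Γ(GW, W) := .of_algebraMap_smul fun _ _ => rfl
  letI := Module.compHom Γ(FW, W) (g'.appLE U W inf_le_left).hom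
  haveI : IsScalarTower Γ(X, U) Γ(X', W) Γ(FW, W) := .of_algebraMap_smul fun _ _ => rfl
  have hG := PullbackMod.isBaseChange_pullMapL f' G hV' hW' (inf_le_right : W ≤ f' ⁻¹ᵁ V')
  have hF := PullbackMod.isBaseChange_pullMapL g' F hU hW' (inf_le_left : W ≤ g' ⁻¹ᵁ U)
  let e₁ := AddEquiv.ofBijective (pairL GW FW W).toAddMonoidHom (bijective_pairL GW FW hW')
  letI := Module.compHom Γ(FW, W) (f'.appLE V' W inf_le_right).hom
  haveI : IsScalarTower Γ(S', V') Γ(X', W) Γ(FW, W) := .of_algebraMap_smul fun _ _ => rfl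
  let eF := (Algebra.IsPushout.cancelBaseChange Γ(S, V) Γ(S', V') Γ(X, U) Γ(X', W) Γ(F, U)).symm.trans
    (hF.equiv.restrictScalars Γ(S', V'))
  have heF : ∀ t, eF (1 ⊗ₜ t) = PullbackMod.pullMap g' F inf_le_left t := fun t => by
    show hF.equiv ((Algebra.IsPushout.cancelBaseChange _ _ _ _ _).symm (1 ⊗ₜ t)) = _
    rw [Algebra.IsPushout.cancelBaseChange_symm_tmul, hF.equiv_tmul, map_one, one_smul]
    rfl
  obtain ⟨e, he⟩ := exists_congr_equiv (A := Γ(S, V)) eF hG.equiv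
  refine ⟨e.trans e₁, fun s t => (congrArg e₁ (he s t)).trans ?_⟩
  show pairS GW FW (hG.equiv (1 ⊗ₜ s)) (eF (1 ⊗ₜ t)) = _
  rw [hG.equiv_tmul, one_smul, heF]
  rfl

end Groth.Agent.TwBCLib
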