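import Groth.Agent.GenBCLib.OnAb
import Groth.Agent.TwBCLib.Sections

/-!
# Twisted pullback of cohomology classes
-/

set_option autoImplicit false
set_option backward.isDefEq.respectTransparency false
set_option linter.style.haveILetI false

universe u

open CategoryTheory AlgebraicGeometry AlgebraicGeometry.Scheme.Modules TopologicalSpace Opposite
open Groth.Agent.DCohLib Groth.Agent.PullbackMod Groth.Agent.CohBase Groth.Agent.GenBCLib

noncomputable section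

namespace Groth.Agent.TwBCLib

section Pair

variable {X : Scheme.{u}} (M N : X.Modules) (U : X.Opens)

/-- The image of an open of an open subscheme lies in it. -/
theorem image_le_self (O : U.toScheme.Opens) : U.ι ''ᵁ O ≤ U := by
  rintro _ ⟨x, -, rfl⟩
  exact x.2

/-- Pairing with a fixed section, on an open subscheme. -/
def muLoc (σ : Γ(M, U)) : N.restrict U.ι ⟶ (tmod M N).restrict U.ι :=
  ⟨PresheafOfModules.homMk
    { app := fun O => AddCommGrpCat.ofHom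
        (AddMonoidHom.mk' (fun t : Γ(N, U.ι ''ᵁ O.unop) =>
          pairS M N (M.presheaf.map (homOfLE (image_le_self U O.unop)).op σ) t) fun a b => pairS_add_right _ _ _)
      naturality := fun {O O'} i => by
        refine AddCommGrpCat.hom_ext (AddMonoidHom.ext fun t => ?_)
        show pairS M N _ (N.presheaf.map (homOfLE (U.ι.image_mono (leOfHom i.unop))).op t) =
          (tmod M N).presheaf.map (homOfLE (U.ι.image_mono (leOfHom i.unop))).op (pairS M N _ t)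
        rw [res_pairS, restr_trans] }
    fun O r t => pairS_smul_right (M := M) (N := N) ((U.ι.appIso O.unop).inv r) _ t⟩

theorem muLoc_app (σ : Γ(M, U)) (O : U.toScheme.Opens) (t : Γ(N, U.ι ''ᵁ O)) :
    (muLoc M N U σ).app O t = pairS M N (M.presheaf.map (homOfLE (image_le_self U O)).op σ) t := rfl

end Pair

variable {X X' S S' : Scheme.{u}} {f : X ⟶ S} {g : S' ⟶ S} {f' : X' ⟶ S'} {g' : X' ⟶ X}
  (w : g' ≫ f = f' ≫ g) (G : S'.Modules) (F : X.Modules) {W : S.Opens} {V' : S'.Opens} (e : V' ≤ g ⁻¹ᵁ W)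

include w e in
theorem le_sq : f' ⁻¹ᵁ V' ≤ g' ⁻¹ᵁ (f ⁻¹ᵁ W) :=
  (f'.preimage_mono e).trans (CohCmp.sqLE f g f' g' w W)

/-- The twisting map over the restricted morphism. -/
def twAb (s : Γ(G, V')) : (CohCmp.toAbOn X (f ⁻¹ᵁ W)).obj F ⟶
    (CohTop.push (g'.resLE (f ⁻¹ᵁ W) (f' ⁻¹ᵁ V') (le_sq w e)).base).obj
      ((CohCmp.toAbOn X' (f' ⁻¹ᵁ V')).obj (tw f' g' G F)) :=
  onAb g' (f ⁻¹ᵁ W) (f' ⁻¹ᵁ V') (le_sq w e) F ≫
    (CohTop.push (g'.resLE (f ⁻¹ᵁ W) (f' ⁻¹ᵁ V') (le_sq w e)).base).map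
      ((SheafOfModules.toSheaf (f' ⁻¹ᵁ V').toScheme.ringCatSheaf).map
        (muLoc _ _ (f' ⁻¹ᵁ V') (pullMap f' G le_rfl s)))

theorem twAb_app (s : Γ(G, V')) (O : (f ⁻¹ᵁ W).toScheme.Opens) (t : Γ(F, (f ⁻¹ᵁ W).ι ''ᵁ O)) :
    (twAb w G F e s).hom.app (op O) t =
      twS f' g' G F (image_le_self (f' ⁻¹ᵁ V') (g'.resLE (f ⁻¹ᵁ W) (f' ⁻¹ᵁ V') (le_sq w e) ⁻¹ᵁ O))
        (pullOn_le g' (f ⁻¹ᵁ W) (f' ⁻¹ᵁ V') (le_sq w e) (W := O) le_rfl) s t := by
  refine (congrArg (fun z => (muLoc _ _ (f' ⁻¹ᵁ V') (pullMap f' G le_rfl s)).app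
    (g'.resLE (f ⁻¹ᵁ W) (f' ⁻¹ᵁ V') (le_sq w e) ⁻¹ᵁ O) z) (onAb_app g' (f ⁻¹ᵁ W) (f' ⁻¹ᵁ V') (le_sq w e) F O t)).trans ?_
  refine (muLoc_app _ _ (f' ⁻¹ᵁ V') _ _ _).trans ?_
  refine congrArg (fun m => pairS _ _ m _) ?_
  exact (pullMap_res f' G le_rfl le_rfl _ _ s).trans (congrArg _ (restr_self G le_rfl s))

/-- The twisted pullback of classes. -/
def twCls (p : ℕ) (s : Γ(G, V')) (x : Coh.HHon X F (f ⁻¹ᵁ W) p) :
    Coh.HHon X' (tw f' g' G F) (f' ⁻¹ᵁ V') p :=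
  pullH (g'.resLE (f ⁻¹ᵁ W) (f' ⁻¹ᵁ V') (le_sq w e)).base (twAb w G F e s) p x

/-- Restriction on the source of the twist. -/
theorem resLE_twCls {V'' : S'.Opens} (hV : V'' ≤ V') (p : ℕ) (s : Γ(G, V'))
    (x : Coh.HHon X F (f ⁻¹ᵁ W) p) :
    CohPull.resLE (tw f' g' G F) (f'.preimage_mono hV) p (twCls w G F e p s x) =
      twCls w G F (hV.trans e) p (G.presheaf.map (homOfLE hV).op s) x := by
  rw [resLE_eq_pullH]
  refine (pullH_pullH (resMor (f'.preimage_mono hV)).base _ _ _ p x).trans ?_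
  refine pullH_congr (comp_base_eq g' (f ⁻¹ᵁ W) (le_sq w e) (f'.preimage_mono hV)) _ _
    (compOver_eq _ _ (comp_base_eq g' (f ⁻¹ᵁ W) (le_sq w e) (f'.preimage_mono hV)) _ _ _ fun O t i => ?_) p x
  show (tw f' g' G F).presheaf.map (homOfLE ((f' ⁻¹ᵁ V'').ι.image_mono i)).op
    ((restrAb (tw f' g' G F) (f'.preimage_mono hV)).hom.app (op (g'.resLE (f ⁻¹ᵁ W) (f' ⁻¹ᵁ V') (le_sq w e) ⁻¹ᵁ O))
      ((twAb w G F e s).hom.app (op O) t)) = (twAb w G F (hV.trans e) (G.presheaf.map (homOfLE hV).op s)).hom.app (op O) t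
  rw [twAb_app, twAb_app]
  erw [restrAb_app]
  rw [restr_trans]
  exact (twS_res G F _ _ _ hV le_rfl (image_le_self (f' ⁻¹ᵁ V'') _)
    (pullOn_le g' (f ⁻¹ᵁ W) (f' ⁻¹ᵁ V'') (le_sq w (hV.trans e)) (W := O) le_rfl) s t).trans
    (congrArg (twS f' g' G F _ _ _) (restr_self F le_rfl t))

/-- Restriction on the base. -/
theorem twCls_resLE {W₂ : S.Opens} (hW : W₂ ≤ W) (e₂ : V' ≤ g ⁻¹ᵁ W₂) (p : ℕ) (s : Γ(G, V'))
    (x : Coh.HHon X F (f ⁻¹ᵁ W) p) :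
    twCls w G F e₂ p s (CohPull.resLE F (f.preimage_mono hW) p x) = twCls w G F e p s x := by
  rw [resLE_eq_pullH]
  refine (pullH_pullH _ (resMor (f.preimage_mono hW)).base _ _ p x).trans ?_
  have hm : g'.resLE (f ⁻¹ᵁ W₂) (f' ⁻¹ᵁ V') (le_sq w e₂) ≫ resMor (f.preimage_mono hW) =
      g'.resLE (f ⁻¹ᵁ W) (f' ⁻¹ᵁ V') (le_sq w e) := by
    rw [← cancel_mono (f ⁻¹ᵁ W).ι]
    simp
  have hb := congrArg (fun k => k.base) hm
  refine pullH_congr hb _ _ (compOver_eq _ _ hb _ _ _ fun O t i => ?_) p x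
  show (tw f' g' G F).presheaf.map (homOfLE ((f' ⁻¹ᵁ V').ι.image_mono i)).op
    ((twAb w G F e₂ s).hom.app (op (resMor (f.preimage_mono hW) ⁻¹ᵁ O))
      ((restrAb F (f.preimage_mono hW)).hom.app (op O) t)) = (twAb w G F e s).hom.app (op O) t
  refine Eq.trans ?_ (twAb_app w G F e s O t).symm
  refine (congrArg ((tw f' g' G F).presheaf.map (homOfLE ((f' ⁻¹ᵁ V').ι.image_mono i)).op)
    ((congrArg ((twAb w G F e₂ s).hom.app (op (resMor (f.preimage_mono hW) ⁻¹ᵁ O)))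
      (restrAb_app F (f.preimage_mono hW) O t)).trans
      (twAb_app w G F e₂ s (resMor (f.preimage_mono hW) ⁻¹ᵁ O) _))).trans ?_
  have e₁ := (pullOn_le g' (f ⁻¹ᵁ W₂) (f' ⁻¹ᵁ V') (le_sq w e₂) (W := resMor (f.preimage_mono hW) ⁻¹ᵁ O) i)
  refine (twS_res G F _ _ _ le_rfl le_rfl (image_le_self (f' ⁻¹ᵁ V') _) e₁ s _).trans ?_
  rw [restr_self, restr_self]
  exact congrArg (pairS _ _ _) (pullMap_res g' F (pullOn_le g' (f ⁻¹ᵁ W) (f' ⁻¹ᵁ V') (le_sq w e) (W := O) le_rfl)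
    (restr_le (f.preimage_mono hW) O) le_rfl e₁ t).symm |>.trans (congrArg (pairS _ _ _) (restr_self _ le_rfl _))

end Groth.Agent.TwBCLib
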