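import Groth.Agent.TwBCLib.Class
import Groth.Agent.GenBCLib.FlatBCQS
import Groth.Agent.FlatBCMod.Opens
import Groth.Agent.GenBCLib.FlatCoh

/-!
# Comparison data for twisted base change
-/

set_option autoImplicit false
set_option backward.isDefEq.respectTransparency false
set_option linter.style.haveILetI false

universe u

open CategoryTheory Limits Opposite TopologicalSpace AlgebraicGeometry
open Groth.Agent.CohBase Groth.Agent.RpushLib Groth.Agent.GenBCLib Groth.Agent.PullbackMod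
open scoped TensorProduct

noncomputable section

namespace Groth.Agent.TwBCLib

section Abstract

universe v w

/-- A bijective comparison followed by an isomorphism. -/
theorem exists_equiv_of_goodM {C : Type (u + 1)} [Category.{v} C] [Abelian C] [HasExt.{w} C] {A B M : Type u}
    [CommRing A] [CommRing B] [AddCommGroup M] [Module A M] [Module B M] [SMulCommClass A B M]
    (D : FlatBCMod.Datum C A B M) (P : C) (n : ℕ) (hgood : FlatBCMod.Good D P n) {H : Type w}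
    [AddCommGroup H] (j : Abelian.Ext.{w} P D.N n ≃+ H) (act : B → H → H)
    (hact : ∀ c z, j (z.comp (Abelian.Ext.mk₀ (D.σ c)) (add_zero n)) = act c (j z)) :
    ∃ e : M ⊗[A] FlatBCMod.E D P n ≃+ H, (∀ c t, e (c • t) = act c (e t)) ∧
      ∀ (m : M) (x : FlatBCMod.E D P n),
        e (m ⊗ₜ x) = j (Abelian.Ext.comp (show Abelian.Ext.{w} P D.F n from x) (Abelian.Ext.mk₀ (D.ν m)) (add_zero n)) :=
  ⟨(AddEquiv.ofBijective (FlatBCMod.θ D P n) hgood).trans j,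
    fun c t => (congrArg j (FlatBCMod.θ_smul D P n c t)).trans (hact c _), fun _ _ => rfl⟩

end Abstract

/-- Degree zero classes of the comparison. -/
theorem H0Equiv_θ {Y : Scheme.{u}} {A B M : Type u} [CommRing A] [CommRing B] [AddCommGroup M] [Module A M] [Module B M]
    (D : FlatBCMod.Datum (AbSh Y) A B M) (U : Y.Opens) (m : M) (c : FlatBCMod.E.{u} D (freeAb U) 0) :
    H0Equiv U D.N (FlatBCMod.θ D (freeAb U) 0 (m ⊗ₜ c)) = (D.ν m).hom.app (op U) (H0Equiv U D.F c) :=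
  H0Equiv_hmap U (D.ν m) c

variable {X S : Scheme.{u}}

theorem preTop_smul_app (f : X ⟶ S) (F : X.Modules) (V : S.Opens) (a : Γ(S, V))
    (O : (f ⁻¹ᵁ V).toScheme.Opens) (t : Γ(F, (f ⁻¹ᵁ V).ι ''ᵁ O)) :
    (Coh.smulAb (F.restrict (f ⁻¹ᵁ V).ι) (preTop f V a)).hom.app (op O) t =
      (f.appLE V ((f ⁻¹ᵁ V).ι ''ᵁ O) (image_le_self (f ⁻¹ᵁ V) O) a • t) := by
  show ((f ⁻¹ᵁ V).ι.appIso O).inv (Coh.resTop (f ⁻¹ᵁ V).toScheme (op O) (preTop f V a)) • t = _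
  congr 1
  rw [Scheme.Opens.ι_appIso]
  show X.presheaf.map _ (X.presheaf.map _ (f.app V a)) = _
  rw [← CategoryTheory.ConcreteCategory.comp_apply, ← Functor.map_comp]
  rfl

variable {X' S' : Scheme.{u}} {f : X ⟶ S} {g : S' ⟶ S} {f' : X' ⟶ S'} {g' : X' ⟶ X}
  (h : IsPullback g' f' f g) (G : S'.Modules) (F : X.Modules)
  {V : S.Opens} {V' : S'.Opens} (e : V' ≤ g ⁻¹ᵁ V)

variable (w : g' ≫ f = f' ≫ g)

theorem twS_smul_base {U : X.Opens} {W : X'.Opens} (eU : U ≤ f ⁻¹ᵁ V) (e₂ : W ≤ f' ⁻¹ᵁ V') (e₁ : W ≤ g' ⁻¹ᵁ U)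
    (w : g' ≫ f = f' ≫ g) (a : Γ(S, V)) (s : Γ(G, V')) (t : Γ(F, U)) :
    twS f' g' G F e₂ e₁ (g.appLE V V' e a • s) t = twS f' g' G F e₂ e₁ s (f.appLE V U eU a • t) := by
  rw [twS_smul_left, twS_smul_right, ← CategoryTheory.ConcreteCategory.comp_apply,
    ← CategoryTheory.ConcreteCategory.comp_apply, Scheme.Hom.appLE_comp_appLE, Scheme.Hom.appLE_comp_appLE]
  simp only [w]

theorem twAb_smul_base (a : Γ(S, V)) (s : Γ(G, V')) :
    twAb w G F e (g.appLE V V' e a • s) = Coh.smulAb (F.restrict (f ⁻¹ᵁ V).ι) (preTop f V a) ≫ twAb w G F e s := by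
  refine ObjectProperty.hom_ext _ (NatTrans.ext (funext fun O => AddCommGrpCat.hom_ext (AddMonoidHom.ext fun t => ?_)))
  show (twAb w G F e (g.appLE V V' e a • s)).hom.app (op O.unop) t = (twAb w G F e s).hom.app (op O.unop)
    ((Coh.smulAb (F.restrict (f ⁻¹ᵁ V).ι) (preTop f V a)).hom.app (op O.unop) t)
  refine (twAb_app w G F e _ O.unop t).trans ?_
  refine Eq.trans ?_ ((congrArg ((twAb w G F e s).hom.app (op O.unop)) (preTop_smul_app f F V a O.unop t)).trans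
    (twAb_app w G F e s O.unop _)).symm
  exact twS_smul_base G F e (image_le_self _ O.unop) _ _ w a s t

theorem twAb_smul (c : Γ(S', V')) (s : Γ(G, V')) :
    twAb w G F e (c • s) = twAb w G F e s ≫ (pushS (g'.resLE (f ⁻¹ᵁ V) (f' ⁻¹ᵁ V') (le_sq w e)).base).map
      (Coh.smulAb ((tw f' g' G F).restrict (f' ⁻¹ᵁ V').ι) (preTop f' V' c)) := by
  refine ObjectProperty.hom_ext _ (NatTrans.ext (funext fun O => AddCommGrpCat.hom_ext (AddMonoidHom.ext fun t => ?_)))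
  show (twAb w G F e (c • s)).hom.app (op O.unop) t =
    (Coh.smulAb ((tw f' g' G F).restrict (f' ⁻¹ᵁ V').ι) (preTop f' V' c)).hom.app
      (op (g'.resLE (f ⁻¹ᵁ V) (f' ⁻¹ᵁ V') (le_sq w e) ⁻¹ᵁ O.unop)) ((twAb w G F e s).hom.app (op O.unop) t)
  refine ((twAb_app w G F e _ O.unop t).trans (twS_smul_left G F _ _ c s t)).trans ?_
  refine Eq.trans ?_ ((congrArg ((Coh.smulAb ((tw f' g' G F).restrict (f' ⁻¹ᵁ V').ι) (preTop f' V' c)).hom.app
      (op (g'.resLE (f ⁻¹ᵁ V) (f' ⁻¹ᵁ V') (le_sq w e) ⁻¹ᵁ O.unop))) (twAb_app w G F e s O.unop t)).trans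
    (preTop_smul_app f' (tw f' g' G F) V' c _ _)).symm
  rfl

/-- The twisted comparison data. -/
def datum :
    letI : Algebra Γ(S, V) Γ(S', V') := (g.appLE V V' e).hom.toAlgebra
    letI := Module.compHom Γ(G, V') (g.appLE V V' e).hom
    FlatBCMod.Datum (AbSh ↑(f ⁻¹ᵁ V)) Γ(S, V) Γ(S', V') Γ(G, V') :=
  letI : Algebra Γ(S, V) Γ(S', V') := (g.appLE V V' e).hom.toAlgebra
  letI := Module.compHom Γ(G, V') (g.appLE V V' e).hom
  { F := Coh.toAb (F.restrict (f ⁻¹ᵁ V).ι)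
    N := (pushS (g'.resLE (f ⁻¹ᵁ V) (f' ⁻¹ᵁ V') (le_sq h.w e)).base).obj
      (Coh.toAb ((tw f' g' G F).restrict (f' ⁻¹ᵁ V').ι))
    ρ :=
      { toFun := fun a => Coh.smulAb _ (preTop f V a)
        map_one' := by rw [map_one, Coh.smulAb_one]; rfl
        map_mul' := fun a b => by rw [map_mul, Coh.smulAb_mul]; rfl
        map_zero' := by rw [map_zero, Coh.smulAb_zero]
        map_add' := fun a b => by rw [map_add, Coh.smulAb_add] }
    σ :=
      { toFun := fun b => (pushS (g'.resLE (f ⁻¹ᵁ V) (f' ⁻¹ᵁ V') (le_sq h.w e)).base).map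
          (Coh.smulAb ((tw f' g' G F).restrict (f' ⁻¹ᵁ V').ι) (preTop f' V' b))
        map_one' := by rw [map_one, Coh.smulAb_one, CategoryTheory.Functor.map_id]; rfl
        map_mul' := fun a b => by rw [map_mul, Coh.smulAb_mul, Functor.map_comp]; rfl
        map_zero' := by rw [map_zero, Coh.smulAb_zero, Functor.map_zero]
        map_add' := fun a b => by rw [map_add, Coh.smulAb_add, Functor.map_add] }
    ν := AddMonoidHom.mk' (fun s => twAb h.w G F e s) fun s s' =>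
      ObjectProperty.hom_ext _ (NatTrans.ext (funext fun O => AddCommGrpCat.hom_ext (AddMonoidHom.ext fun t => by
        show (twAb h.w G F e (s + s')).hom.app (op O.unop) t =
          (twAb h.w G F e s).hom.app (op O.unop) t + (twAb h.w G F e s').hom.app (op O.unop) t
        rw [twAb_app, twAb_app, twAb_app, twS_add_left])))
    ν_smul := fun a s => twAb_smul_base (w := h.w) G F e a s
    ν_smul' := fun c s => twAb_smul (w := h.w) G F e c s }

theorem image_preimage (O : (f ⁻¹ᵁ V).toScheme.Opens) :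
    (f' ⁻¹ᵁ V').ι ''ᵁ (g'.resLE (f ⁻¹ᵁ V) (f' ⁻¹ᵁ V') (le_sq h.w e) ⁻¹ᵁ O) =
      g' ⁻¹ᵁ ((f ⁻¹ᵁ V).ι ''ᵁ O) ⊓ f' ⁻¹ᵁ V' := by
  refine le_antisymm (le_inf (pullOn_le g' (f ⁻¹ᵁ V) (f' ⁻¹ᵁ V') (le_sq h.w e) le_rfl) (image_le_self _ _)) ?_
  rintro x ⟨⟨y, hy, hyx⟩, hx⟩
  refine ⟨⟨x, hx⟩, ?_, rfl⟩
  have : (g'.resLE (f ⁻¹ᵁ V) (f' ⁻¹ᵁ V') (le_sq h.w e) ≫ (f ⁻¹ᵁ V).ι) ⟨x, hx⟩ = (f ⁻¹ᵁ V).ι y := by
    rw [Scheme.Hom.resLE_comp_ι]
    exact hyx.symm
  rw [show y = g'.resLE (f ⁻¹ᵁ V) (f' ⁻¹ᵁ V') (le_sq h.w e) ⟨x, hx⟩ from Subtype.ext this.symm] at hy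
  exact hy

theorem twS_res_self {U : X.Opens} {W W₁ : X'.Opens} (e₂ : W ≤ f' ⁻¹ᵁ V') (e₁ : W ≤ g' ⁻¹ᵁ U) (hW : W₁ ≤ W)
    (e₂' : W₁ ≤ f' ⁻¹ᵁ V') (e₁' : W₁ ≤ g' ⁻¹ᵁ U) (s : Γ(G, V')) (t : Γ(F, U)) :
    (tw f' g' G F).presheaf.map (homOfLE hW).op (twS f' g' G F e₂ e₁ s t) = twS f' g' G F e₂' e₁' s t :=
  (twS_res G F e₂ e₁ hW le_rfl le_rfl e₂' e₁' s t).trans
    ((congrArg (fun z => twS f' g' G F e₂' e₁' z _) (restr_self G le_rfl s)).trans
      (congrArg (twS f' g' G F e₂' e₁' s) (restr_self F le_rfl t)))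

end Groth.Agent.TwBCLib
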