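import Groth.Agent.TwBCLib.Datum

/-!
# Twisted base change of cohomology over affine opens
-/

set_option autoImplicit false
set_option backward.isDefEq.respectTransparency false
set_option linter.style.haveILetI false

universe u

open CategoryTheory Limits Opposite TopologicalSpace AlgebraicGeometry
open Groth.Agent.CohBase Groth.Agent.RpushLib Groth.Agent.GenBCLib Groth.Agent.PullbackMod
open scoped TensorProduct

noncomputable section

namespace Groth.Agent.TwBCLib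

variable {X S X' S' : Scheme.{u}} {f : X ⟶ S} {g : S' ⟶ S} {f' : X' ⟶ S'} {g' : X' ⟶ X}
  (h : IsPullback g' f' f g) (G : S'.Modules) (F : X.Modules)
  {V : S.Opens} {V' : S'.Opens} (e : V' ≤ g ⁻¹ᵁ V)

variable [Coh.IsQCoh G] [Coh.IsQCoh F] (hV : IsAffineOpen V) (hV' : IsAffineOpen V')

set_option maxHeartbeats 1000000 in
include hV hV' in
/-- The degree zero comparison on affine opens. -/
theorem good_affine (U : (f ⁻¹ᵁ V).toScheme.Opens) (hU : IsAffineOpen U) :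
    letI : Algebra Γ(S, V) Γ(S', V') := (g.appLE V V' e).hom.toAlgebra
    letI := Module.compHom Γ(G, V') (g.appLE V V' e).hom
    FlatBCMod.Good.{u} (datum h G F e) (freeAb U) 0 := by
  letI : Algebra Γ(S, V) Γ(S', V') := (g.appLE V V' e).hom.toAlgebra
  letI := Module.compHom Γ(G, V') (g.appLE V V' e).hom
  let D := datum h G F e
  let U₁ := (f ⁻¹ᵁ V).ι ''ᵁ U
  have eU : U₁ ≤ f ⁻¹ᵁ V := image_le_self _ _
  letI := Module.compHom Γ(F, U₁) (f.appLE V U₁ eU).hom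
  obtain ⟨L, hL⟩ := exists_twS_equiv h G F hV hV' e (hU.image_of_isOpenImmersion _) eU
  let κ : FlatBCMod.E.{u} D (freeAb U) 0 ≃ₗ[Γ(S, V)] Γ(F, U₁) :=
    { (H0Equiv U (Coh.toAb (F.restrict (f ⁻¹ᵁ V).ι))) with
      map_smul' := fun a c => by
        refine (H0Equiv_hmap U (Coh.smulAb (F.restrict (f ⁻¹ᵁ V).ι) (preTop f V a)) c).trans ?_
        exact preTop_smul_app f F V a U _ }
  have hW := image_preimage h e U
  let r : Γ(tw f' g' G F, (f' ⁻¹ᵁ V').ι ''ᵁ (g'.resLE (f ⁻¹ᵁ V) (f' ⁻¹ᵁ V') (le_sq h.w e) ⁻¹ᵁ U)) →+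
      Γ(tw f' g' G F, g' ⁻¹ᵁ U₁ ⊓ f' ⁻¹ᵁ V') :=
    ((tw f' g' G F).presheaf.map (homOfLE hW.ge).op).hom
  have hr : Function.Bijective r := PullbackMod.res_bijective (tw f' g' G F) hW.ge hW.le
  let K : HU U D.N 0 →+ Γ(tw f' g' G F, g' ⁻¹ᵁ U₁ ⊓ f' ⁻¹ᵁ V') := r.comp (H0Equiv U D.N).toAddMonoidHom
  have hK : Function.Bijective K := hr.comp (H0Equiv U D.N).bijective
  let T₁ : Γ(G, V') ⊗[Γ(S, V)] FlatBCMod.E.{u} D (freeAb U) 0 →+ Γ(tw f' g' G F, g' ⁻¹ᵁ U₁ ⊓ f' ⁻¹ᵁ V') :=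
    K.comp (FlatBCMod.θ D (freeAb U) 0)
  let T₂ : Γ(G, V') ⊗[Γ(S, V)] FlatBCMod.E.{u} D (freeAb U) 0 →+ Γ(tw f' g' G F, g' ⁻¹ᵁ U₁ ⊓ f' ⁻¹ᵁ V') :=
    L.toAddMonoidHom.comp (κ.lTensor Γ(G, V')).toLinearMap.toAddMonoidHom
  have key : ∀ z, T₁ z = T₂ z := fun z => by
    induction z using TensorProduct.induction_on with
    | zero => exact T₁.map_zero.trans T₂.map_zero.symm
    | tmul s c =>
      refine Eq.trans ?_ (congrArg L (LinearEquiv.lTensor_tmul Γ(G, V') κ s c)).symm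
      refine Eq.trans ?_ (hL s (κ c)).symm
      refine (congrArg r (H0Equiv_θ D U s c)).trans ?_
      refine (congrArg r (twAb_app h.w G F e s U _)).trans ?_
      exact twS_res_self G F _ _ hW.ge inf_le_right inf_le_left s (κ c)
    | add x y hx hy => exact (T₁.map_add x y).trans ((congrArg₂ (· + ·) hx hy).trans (T₂.map_add x y).symm)
  have hb : Function.Bijective T₁ := by
    rw [show ⇑T₁ = ⇑T₂ from funext key]
    exact L.bijective.comp (κ.lTensor Γ(G, V')).bijective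
  exact ⟨fun x y hxy => hb.1 (congrArg K hxy), fun y => Exists.imp (fun t ht => hK.1 ht) (hb.2 (K y))⟩

variable [QuasiCompact f] [QuasiSeparated f] (hG : FlatMod.IsFlatOver g G)

include hV hV' hG in
/-- Twisted base change of cohomology over affine opens. -/
theorem exists_twCls_equiv (p : ℕ) :
    letI : Algebra Γ(S, V) Γ(S', V') := (g.appLE V V' e).hom.toAlgebra
    letI := Module.compHom Γ(G, V') (g.appLE V V' e).hom
    letI : Module Γ(S, V) (Coh.HHon X F (f ⁻¹ᵁ V) p) := Module.compHom _ (preTop f V)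
    letI : Module Γ(S', V') (Coh.HHon X' (tw f' g' G F) (f' ⁻¹ᵁ V') p) := Module.compHom _ (preTop f' V')
    haveI : IsScalarTower Γ(S, V) Γ(S', V') Γ(G, V') := .of_algebraMap_smul fun _ _ => rfl
    ∃ t : Γ(G, V') ⊗[Γ(S, V)] Coh.HHon X F (f ⁻¹ᵁ V) p ≃ₗ[Γ(S', V')]
        Coh.HHon X' (tw f' g' G F) (f' ⁻¹ᵁ V') p,
      ∀ s x, t (s ⊗ₜ x) = twCls h.w G F e p s x := by
  letI : Algebra Γ(S, V) Γ(S', V') := (g.appLE V V' e).hom.toAlgebra
  letI := Module.compHom Γ(G, V') (g.appLE V V' e).hom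
  haveI : IsScalarTower Γ(S, V) Γ(S', V') Γ(G, V') := .of_algebraMap_smul fun _ _ => rfl
  letI : Module Γ(S, V) (Coh.HHon X F (f ⁻¹ᵁ V) p) := Module.compHom _ (preTop f V)
  letI : Module Γ(S', V') (Coh.HHon X' (tw f' g' G F) (f' ⁻¹ᵁ V') p) := Module.compHom _ (preTop f' V')
  haveI : Module.Flat Γ(S, V) Γ(G, V') := flat_sections_over g G hG hV hV' e
  haveI : CompactSpace (f ⁻¹ᵁ V : Scheme.{u}) := isCompact_iff_compactSpace.1 (f.isCompact_preimage hV.isCompact)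
  haveI : QuasiSeparatedSpace (f ⁻¹ᵁ V : Scheme.{u}) := (isQuasiSeparated_iff_quasiSeparatedSpace _ (f ⁻¹ᵁ V).2).1
    (f.isQuasiSeparated_preimage hV.isQuasiSeparated)
  let g₀ := g'.resLE (f ⁻¹ᵁ V) (f' ⁻¹ᵁ V') (le_sq h.w e)
  haveI : IsAffineHom g₀ :=
    MorphismProperty.of_isPullback (P := @IsAffineHom) (isPullback_sqMor h hV hV' e).flip inferInstance
  haveI := PullbackMod.isQCoh_pullback f' G
  haveI := PullbackMod.isQCoh_pullback g' F
  haveI : Coh.IsQCoh (tw f' g' G F) := BCLib.isQCoh_tmod _ _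
  haveI := isQCoh_restrict F (f ⁻¹ᵁ V)
  haveI := isQCoh_restrict (tw f' g' G F) (f' ⁻¹ᵁ V')
  let N₀ := (tw f' g' G F).restrict (f' ⁻¹ᵁ V').ι
  haveI : Coh.IsQCoh ((Scheme.Modules.pushforward g₀).obj N₀) := QCohLib.isQCoh_pushforward N₀ g₀
  let D := datum h G F e
  have hgood := FlatBCMod.goodU_of_affine D
    (fun U hU m => affine_vanishing (F.restrict (f ⁻¹ᵁ V).ι) hU m)
    (fun U hU m => affine_vanishing ((Scheme.Modules.pushforward g₀).obj N₀) hU m)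
    (good_affine h G F e hV hV') ⊤ isCompact_univ p
  have hedge : Function.Bijective (edgeH g₀.base (Coh.toAb N₀) p) :=
    bijective_edgeH g₀.base (B := fun O : (f ⁻¹ᵁ V).toScheme.Opens => IsAffineOpen O)
      (fun W y hy => by
        obtain ⟨_, ⟨O : (f ⁻¹ᵁ V).toScheme.Opens, hO, rfl⟩, hyO, hOW⟩ :=
          (f ⁻¹ᵁ V).toScheme.isBasis_affineOpens.exists_subset_of_mem_open (a := y) hy W.2
        exact ⟨O, hO, hyO, hOW⟩) p
      (fun O hO m => affine_vanishing N₀ (hO.preimage g₀) m)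
  let κ : Coh.HHon X F (f ⁻¹ᵁ V) p ≃ₗ[Γ(S, V)] FlatBCMod.E.{u} D (freeAb ⊤) p :=
    { (HHEquiv (F.restrict (f ⁻¹ᵁ V).ι) p) with
      map_smul' := fun a x =>
        (HEquiv_map (Coh.smulAb (F.restrict (f ⁻¹ᵁ V).ι) (preTop f V a)) p x).trans (hmap_apply _ _ _) }
  let i : Γ(G, V') ⊗[Γ(S, V)] Coh.HHon X F (f ⁻¹ᵁ V) p ≃ₗ[Γ(S', V')]
      Γ(G, V') ⊗[Γ(S, V)] FlatBCMod.E.{u} D (freeAb ⊤) p :=
    TensorProduct.AlgebraTensorModule.congr (LinearEquiv.refl Γ(S', V') Γ(G, V')) κ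
  let j := edgeEquiv g₀.base (Coh.toAb N₀) p hedge
  obtain ⟨t, ht, ht'⟩ := exists_equiv_of_goodM D (freeAb ⊤) p hgood j
    (fun c y => Sheaf.H.map (Coh.smulAb N₀ (preTop f' V' c)) p y)
    (fun c z => edgeEquiv_push g₀.base (Coh.toAb N₀) p hedge (Coh.smulAb N₀ (preTop f' V' c)) z)
  refine ⟨AddEquiv.toLinearEquiv (i.toAddEquiv.trans t)
    (fun c z => (congrArg t (map_smul i c z)).trans (ht c (i z))), fun s x => ?_⟩
  exact (ht' s (κ x)).trans (edgeEquiv_map g₀.base (Coh.toAb N₀) p hedge (twAb h.w G F e s) x)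

end Groth.Agent.TwBCLib
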